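import Mathlib.CategoryTheory.Localization.Triangulated
import Mathlib.CategoryTheory.Triangulated.Subcategory

/-!
# Zero objects and isomorphisms in a localisation of a pretriangulated category
-/

set_option autoImplicit false

universe v v' u u'

open CategoryTheory CategoryTheory.Limits Pretriangulated

namespace Groth.Agent.TriLoc

section

variable {D : Type u} [Category.{v} D] [Preadditive D] [HasZeroObject D] [HasShift D ℤ]
  [∀ n : ℤ, (shiftFunctor D n).Additive] [Pretriangulated D]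
  (S : MorphismProperty D) [S.HasLeftCalculusOfFractions]
  [S.IsCompatibleWithTriangulation]
  {E : Type u'} [Category.{v'} E] (Q : D ⥤ E) [Q.IsLocalization S]

theorem isZero_iff_Q (Z : D) : IsZero (Q.obj Z) ↔ IsZero (S.Q.obj Z) := by
  let e := Localization.uniq S.Q Q S
  let i := (Localization.compUniqFunctor S.Q Q S).app Z
  refine ⟨fun h => ?_, fun h => ?_⟩
  · rw [IsZero.iff_id_eq_zero]
    exact e.functor.map_injective ((h.of_iso i).eq_of_src _ _)
  · exact IsZero.of_iso ⟨fun Y => ⟨⟨⟨(e.functor.map (h.to_ (e.functor.objPreimage Y)) ≫ (e.functor.objObjPreimageIso Y).hom)⟩, fun g => by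
      obtain ⟨g', hg'⟩ := e.functor.map_surjective (g ≫ (e.functor.objObjPreimageIso Y).inv)
      rw [← cancel_mono (e.functor.objObjPreimageIso Y).inv, ← hg']; simp [h.eq_of_src g' (h.to_ _)]⟩⟩,
      fun Y => ⟨⟨⟨(e.functor.objObjPreimageIso Y).inv ≫ e.functor.map (h.from_ (e.functor.objPreimage Y))⟩, fun g => by
      obtain ⟨g', hg'⟩ := e.functor.map_surjective ((e.functor.objObjPreimageIso Y).hom ≫ g)
      rw [← cancel_epi (e.functor.objObjPreimageIso Y).hom, ← hg']; simp [h.eq_of_tgt g' (h.from_ _)]⟩⟩⟩ i.symm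

theorem isIso_iff_Q {X Y : D} (f : X ⟶ Y) : IsIso (Q.map f) ↔ IsIso (S.Q.map f) := by
  let e := Localization.uniq S.Q Q S
  rw [← NatIso.isIso_map_iff (Localization.compUniqFunctor S.Q Q S) f]
  change IsIso (e.functor.map (S.Q.map f)) ↔ _
  exact ⟨fun _ => isIso_of_fully_faithful e.functor (S.Q.map f), fun h => inferInstance⟩

include S

theorem isIso_iff_isZero_cone (T : Triangle D) (hT : T ∈ distTriang D) :
    IsIso (Q.map T.mor₁) ↔ IsZero (Q.obj T.obj₃) := by
  rw [isIso_iff_Q S Q, isZero_iff_Q S Q]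
  exact (Triangle.isZero₃_iff_isIso₁ _ (S.Q.map_distinguished T hT)).symm

theorem isZero_iff_map_id_eq (Z : D) : IsZero (Q.obj Z) ↔ Q.map (𝟙 Z) = Q.map 0 := by
  rw [isZero_iff_Q S Q,
    MorphismProperty.map_eq_iff_postcomp Q S, ← MorphismProperty.map_eq_iff_postcomp S.Q S,
    IsZero.iff_id_eq_zero, S.Q.map_id, S.Q.map_zero]

theorem isZero_of_retract {Z W : D} (i : Z ⟶ W) (p : W ⟶ Z) (h : i ≫ p = 𝟙 Z)
    (hW : IsZero (Q.obj W)) : IsZero (Q.obj Z) := by
  rw [isZero_iff_Q S Q] at hW ⊢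
  rw [IsZero.iff_id_eq_zero, ← S.Q.map_id, ← h, S.Q.map_comp, hW.eq_zero_of_src (S.Q.map p),
    comp_zero]

end

theorem exists_triangle_of_zero {D : Type u} [Category.{v} D] [Preadditive D] [HasZeroObject D]
    [HasShift D ℤ] [∀ n : ℤ, (shiftFunctor D n).Additive] [Pretriangulated D] (Z' Z : D) :
    ∃ (g : Z ⟶ Z ⊞ Z'⟦(1 : ℤ)⟧) (h : Z ⊞ Z'⟦(1 : ℤ)⟧ ⟶ Z'⟦(1 : ℤ)⟧),
      Triangle.mk (0 : Z' ⟶ Z) g h ∈ distTriang D := by
  obtain ⟨C, g, h, hT⟩ := distinguished_cocone_triangle (0 : Z' ⟶ Z)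
  obtain ⟨e, -, -⟩ := exists_iso_binaryBiproduct_of_distTriang _ (rot_of_distTriang _ hT)
    (by change -((shiftFunctor D (1 : ℤ)).map (0 : Z' ⟶ Z)) = 0; rw [Functor.map_zero, neg_zero])
  change C ≅ Z ⊞ Z'⟦(1 : ℤ)⟧ at e
  exact ⟨g ≫ e.hom, e.inv ≫ h, isomorphic_distinguished _ hT _
    (Triangle.isoMk _ _ (Iso.refl _) (Iso.refl _) e.symm (zero_comp.trans comp_zero.symm)
      ((Category.assoc g e.hom e.inv).trans ((congrArg (g ≫ ·) e.hom_inv_id).trans
        ((Category.comp_id g).trans (Category.id_comp g).symm)))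
      ((congrArg ((e.inv ≫ h) ≫ ·) (CategoryTheory.Functor.map_id (shiftFunctor D (1 : ℤ)) Z')).trans
        (Category.comp_id _)))⟩

end Groth.Agent.TriLoc
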